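import Groth.Agent.RelFlatLib.Affine
import Groth.Agent.RelFlatLib.LpullStalk
import Groth.Agent.KFlatLib.TildeKFlat
import Groth.Agent.TorLocLib.Restr
import Mathlib.RingTheory.Localization.BaseChange

/-!
# Tor amplitude over the base of the sheaf attached to a complex, without flatness
-/

set_option autoImplicit false
set_option linter.all false
set_option backward.isDefEq.respectTransparency false
set_option backward.isDefEq.respectTransparency.types false
set_option maxHeartbeats 1000000

universe u

open CategoryTheory CategoryTheory.Limits AlgebraicGeometry HomologicalComplex MonoidalCategory TensorProduct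
open Groth.Agent
open Groth.Agent.TwoTermLib.RelAmp (resCx)

attribute [local instance] HasDerivedCategory.standard

noncomputable section

namespace TildeRelAmpLib

/-- Base change along a localization of a module over it. -/
theorem isIso_counit_localization {R R' : Type u} [CommRing R] [CommRing R'] [Algebra R R']
    (S : Submonoid R) [IsLocalization S R'] (M : ModuleCat.{u} R') :
    IsIso ((ModuleCat.extendRestrictScalarsAdj (algebraMap R R')).counit.app M) := by
  haveI : (ModuleCat.restrictScalars.{u} (algebraMap R R')).Full := ⟨fun {X Y} g => by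
    refine ⟨ModuleCat.ofHom
      { toFun := g.hom
        map_add' := map_add g.hom
        map_smul' := fun r x => ?_ }, rfl⟩
    obtain ⟨⟨a, s⟩, hs⟩ := IsLocalization.surj S r
    refine (IsUnit.smul_left_cancel (IsLocalization.map_units R' s)).1 ?_
    have h1 := g.hom.map_smul (s : R) (r • (x : X))
    have h2 := g.hom.map_smul a x
    change g.hom ((algebraMap R R' s) • r • x) = (algebraMap R R' s) • g.hom (r • x) at h1
    change g.hom ((algebraMap R R' a) • x) = (algebraMap R R' a) • g.hom x at h2
    change (algebraMap R R' s) • g.hom (r • x) = (algebraMap R R' s) • r • g.hom x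
    rw [← h1, smul_smul, smul_smul, mul_comm, hs, h2]⟩
  infer_instance

/-- Amplitude over a localization of the base. -/
theorem amp_localization_iff {R R' A : Type u} [CommRing R] [CommRing R'] [CommRing A] [Algebra R R']
    (S : Submonoid R) [IsLocalization S R'] (θ : R' →+* A) (χ : R →+* A)
    (h : χ = θ.comp (algebraMap R R')) (Q : CochainComplex (ModuleCat.{u} A) ℤ) (a b : ℤ) :
    DRing.HasTorAmplitudeIn R a b (DerivedCategory.Q.obj ((resCx χ).obj Q)) ↔
      DRing.HasTorAmplitudeIn R' a b (DerivedCategory.Q.obj ((resCx θ).obj Q)) := by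
  haveI : Module.Flat R R' := IsLocalization.flat R' S
  have hι : (algebraMap R R').Flat := RingHom.flat_algebraMap_iff.2 inferInstance
  let c : (resCx χ).obj Q ≅ (resCx (algebraMap R R')).obj ((resCx θ).obj Q) :=
    TorLocLib.resCxCompIso (algebraMap R R') θ χ h Q
  constructor
  · intro hR
    haveI : ∀ M : ModuleCat.{u} R', IsIso ((ModuleCat.extendRestrictScalarsAdj (algebraMap R R')).counit.app M) :=
      fun M => isIso_counit_localization S M
    let e : (DRingLib.extCx (algebraMap R R')).obj ((resCx (algebraMap R R')).obj ((resCx θ).obj Q)) ≅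
        (resCx θ).obj Q :=
      Hom.isoOfComponents
        (fun n => asIso ((ModuleCat.extendRestrictScalarsAdj (algebraMap R R')).counit.app _))
        (fun i j _ => ((ModuleCat.extendRestrictScalarsAdj (algebraMap R R')).counit.naturality
          (((resCx θ).obj Q).d i j)).symm)
    exact DRingLib.hasTorAmplitudeIn_of_iso (DerivedCategory.Q.mapIso e)
      (DRingLib.hasTorAmplitudeIn_extCx _ hι (DRingLib.hasTorAmplitudeIn_of_iso (DerivedCategory.Q.mapIso c) hR))
  · intro h'
    exact DRingLib.hasTorAmplitudeIn_of_iso
      ((TorLocLib.restrictDQ (algebraMap R R') ((resCx θ).obj Q)) ≪≫ DerivedCategory.Q.mapIso c.symm)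
      (TorLocLib.hasTorAmplitudeIn_restrictD (algebraMap R R') hι h')

variable {R A : Type u} [CommRing R] [CommRing A] (φ : R →+* A)

/-- A module with vanishing stalks is zero. -/
theorem isZero_of_stalks (N : ModuleCat.{u} A)
    (h : ∀ x : Spec (CommRingCat.of A),
      IsZero ((ModuleCat.extendScalars.{u, u, u} (KFlatLib.specStalk (R := CommRingCat.of A) x)).obj N)) :
    IsZero N :=
  RelFlatLib.isZero_of_tilde ((KFlatLib.isZero_iff_forall_stalk _).2 fun x =>
    (h x).of_iso ((KFlatLib.stalkTildeIso (R := CommRingCat.of A) x).app N))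

theorem flat_specStalk (x : Spec (CommRingCat.of A)) :
    (KFlatLib.specStalk (R := CommRingCat.of A) x).Flat := by
  letI : Algebra A ((Spec (CommRingCat.of A)).presheaf.stalk x) := StructureSheaf.stalkAlgebra A x
  haveI : IsLocalization x.asIdeal.primeCompl ((Spec (CommRingCat.of A)).presheaf.stalk x) :=
    StructureSheaf.IsLocalization.to_stalk A x
  rw [show KFlatLib.specStalk (R := CommRingCat.of A) x = algebraMap A ((Spec (CommRingCat.of A)).presheaf.stalk x) from rfl,
    RingHom.flat_algebraMap_iff]
  exact IsLocalization.flat _ x.asIdeal.primeCompl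

/-- Amplitude over the base is local on the algebra. -/
theorem amp_iff_forall_stalk (K : CochainComplex (ModuleCat.{u} A) ℤ) (a b : ℤ) :
    DRing.HasTorAmplitudeIn R a b (DerivedCategory.Q.obj ((resCx φ).obj K)) ↔
      ∀ x : Spec (CommRingCat.of A), DRing.HasTorAmplitudeIn R a b (DerivedCategory.Q.obj
        ((resCx ((KFlatLib.specStalk (R := CommRingCat.of A) x).comp φ)).obj
          ((DRingLib.extCx (KFlatLib.specStalk (R := CommRingCat.of A) x)).obj K))) := by
  simp only [TwoTermLib.RelAmp.hasTorAmplitudeIn_res_iff]
  have key : ∀ (x : Spec (CommRingCat.of A)) (N : ModuleCat.{u} R) (i : ℤ),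
      Nonempty ((((DRingLib.extCx (KFlatLib.specStalk (R := CommRingCat.of A) x)).obj K) ⊗
          (DRingLib.extCx ((KFlatLib.specStalk (R := CommRingCat.of A) x).comp φ)).obj
            (projectiveResolution N).cochainComplex).homology i ≅
        (ModuleCat.extendScalars.{u, u, u} (KFlatLib.specStalk (R := CommRingCat.of A) x)).obj
          ((K ⊗ (DRingLib.extCx φ).obj (projectiveResolution N).cochainComplex).homology i)) := by
    intro x N i
    obtain ⟨e⟩ := DRingLib.exists_homology_extCx_iso _ (flat_specStalk x)
      (K ⊗ (DRingLib.extCx φ).obj (projectiveResolution N).cochainComplex) i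
    exact ⟨(HomologicalComplex.homologyFunctor _ _ i).mapIso
      (TwoTermLib.RelAmp.baseChangeIso φ _ rfl K _) ≪≫ e⟩
  constructor
  · intro h x i hi N
    obtain ⟨e⟩ := key x N i
    exact ((ModuleCat.extendScalars.{u, u, u} _).map_isZero (h i hi N)).of_iso e
  · intro h i hi N
    refine isZero_of_stalks _ fun x => ?_
    obtain ⟨e⟩ := key x N i
    exact (h x i hi N).of_iso e.symm

theorem specStalk_comp (x : Spec (CommRingCat.of A)) :
    (KFlatLib.specStalk (R := CommRingCat.of A) x).comp φ =
      ((Spec.map (CommRingCat.ofHom φ)).stalkMap x).hom.comp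
        (KFlatLib.specStalk (R := CommRingCat.of R) ((Spec.map (CommRingCat.ofHom φ)).base x)) := by
  refine congrArg CommRingCat.Hom.hom (show CommRingCat.ofHom φ ≫ ((Scheme.ΓSpecIso (CommRingCat.of A)).inv ≫
      (Spec (CommRingCat.of A)).presheaf.germ ⊤ x trivial) =
    ((Scheme.ΓSpecIso (CommRingCat.of R)).inv ≫ (Spec (CommRingCat.of R)).presheaf.germ ⊤ _ trivial) ≫
      (Spec.map (CommRingCat.ofHom φ)).stalkMap x from ?_)
  rw [Category.assoc, Scheme.Hom.germ_stalkMap, ← Category.assoc, Scheme.ΓSpecIso_inv_naturality,
    Category.assoc]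
  rfl

/-- The stalkwise form of amplitude of a tilde complex. -/
theorem tilde_amp_iff (K : CochainComplex (ModuleCat.{u} A) ℤ) (a b : ℤ) :
    DerSch.HasTorAmplitude (Spec.map (CommRingCat.ofHom φ)) a b
        (((tilde.functor (CommRingCat.of A)).mapHomologicalComplex (ComplexShape.up ℤ)).obj K) ↔
      DRing.HasTorAmplitudeIn R a b (DerivedCategory.Q.obj ((resCx φ).obj K)) := by
  rw [amp_iff_forall_stalk φ]
  refine forall_congr' fun x => ?_
  let y := (Spec.map (CommRingCat.ofHom φ)).base x
  letI : Algebra R ((Spec (CommRingCat.of R)).presheaf.stalk y) := StructureSheaf.stalkAlgebra R y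
  haveI : IsLocalization y.asIdeal.primeCompl ((Spec (CommRingCat.of R)).presheaf.stalk y) :=
    StructureSheaf.IsLocalization.to_stalk R y
  rw [amp_localization_iff y.asIdeal.primeCompl ((Spec.map (CommRingCat.ofHom φ)).stalkMap x).hom _
    (specStalk_comp φ x)]
  let i : (DerSch.stalkCxOver (Spec.map (CommRingCat.ofHom φ)) x).obj
      (((tilde.functor (CommRingCat.of A)).mapHomologicalComplex (ComplexShape.up ℤ)).obj K) ≅
      (resCx ((Spec.map (CommRingCat.ofHom φ)).stalkMap x).hom).obj
        ((DRingLib.extCx (KFlatLib.specStalk (R := CommRingCat.of A) x)).obj K) :=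
    Hom.isoOfComponents
      (fun n => (ModuleCat.restrictScalars _).mapIso ((KFlatLib.stalkTildeIso (R := CommRingCat.of A) x).app (K.X n)))
      fun i j _ => (((ModuleCat.restrictScalars _).map_comp _ _).symm.trans
        ((congrArg _ ((KFlatLib.stalkTildeIso (R := CommRingCat.of A) x).hom.naturality (K.d i j)).symm).trans
          ((ModuleCat.restrictScalars _).map_comp _ _)))
  exact ⟨DRingLib.hasTorAmplitudeIn_of_iso (DerivedCategory.Q.mapIso i),
    DRingLib.hasTorAmplitudeIn_of_iso (DerivedCategory.Q.mapIso i.symm)⟩

end TildeRelAmpLib
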